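import Cfsg.Agent.H424.Spr.SU
import Cfsg.Agent.H981.Cov.RowU

/-!
# S3938, the row `PSU_11(2)` (helper981)

Irreducible elements `s = [11]` of order prime to `11`: a proper overgroup normalises a field `E` of degree `11`, and
`E` is the centraliser algebra of `s`.
-/

set_option autoImplicit false

namespace Cfsg.Agent.H981.Spr

open Cfsg Cfsg.Geo Module Matrix
open Cfsg.Agent.LieClassical.HermBasic Cfsg.Agent.ClassicalGeometry.HermOrtho Cfsg.Agent.GpUn
open Cfsg.Agent.H779.DP (rho rho_apply rho_injective)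
open Cfsg.Agent.H809.SelfCent (toG toG_injective toG_val)
open Cfsg.Agent.H981.Cov Cfsg.Agent.H424.SprSU
open Cfsg.Agent.H424.Spr (Spr spr_of_one_up)

variable {F : Type} [Field F] [Fintype F] {n q : ℕ}

/-- the centraliser algebra of `s` -/
def cent (s : SU n F q) : Subalgebra F (Matrix (Fin n) (Fin n) F) :=
  Subalgebra.centralizer F {((toG n F q s : GL (Fin n) F) : Matrix (Fin n) (Fin n) F)}

theorem mem_cent {s : SU n F q} {c : Matrix (Fin n) (Fin n) F} : c ∈ cent s ↔
    ((toG n F q s : GL (Fin n) F) : Matrix (Fin n) (Fin n) F) * c = c * (toG n F q s : GL (Fin n) F) := by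
  unfold cent
  rw [Subalgebra.mem_centralizer_iff]
  constructor
  · intro h
    exact h _ rfl
  · rintro h _ rfl
    exact h

/-- Schur -/
theorem finrank_cent_le (hn : 0 < n) {s : SU n F q}
    (hirr : ∀ W : Submodule F (Fin n → F), (∀ w ∈ W, rho n F q s w ∈ W) → W = ⊥ ∨ W = ⊤) :
    finrank F (cent s) ≤ n := by
  have hv : (Pi.single ⟨0, hn⟩ 1 : Fin n → F) ≠ 0 := by
    intro h
    have := congrFun h ⟨0, hn⟩
    rw [Pi.single_eq_same] at this
    exact one_ne_zero this
  generalize (Pi.single ⟨0, hn⟩ 1 : Fin n → F) = v at hv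
  let f : cent s →ₗ[F] (Fin n → F) :=
    (LinearMap.applyₗ v).comp ((Matrix.toLin' : Matrix (Fin n) (Fin n) F ≃ₗ[F] _).toLinearMap.comp
      (cent s).val.toLinearMap)
  have hf : ∀ c : cent s, f c = Matrix.toLin' (c : Matrix (Fin n) (Fin n) F) v := fun c => rfl
  have hinj : Function.Injective f := by
    rw [injective_iff_map_eq_zero]
    intro c hc
    rw [hf] at hc
    have h1 : ∀ w ∈ LinearMap.ker (Matrix.toLin' (c : Matrix (Fin n) (Fin n) F)),
        rho n F q s w ∈ LinearMap.ker (Matrix.toLin' (c : Matrix (Fin n) (Fin n) F)) := by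
      intro w hw
      rw [LinearMap.mem_ker] at hw ⊢
      have h2 := mem_cent.1 c.2
      have h3 : Matrix.toLin' (c : Matrix (Fin n) (Fin n) F) (rho n F q s w) =
          Matrix.toLin' ((c : Matrix (Fin n) (Fin n) F) * ((toG n F q s : GL (Fin n) F) : Matrix (Fin n) (Fin n) F)) w := by
        rw [Matrix.toLin'_mul]
        rfl
      rw [h3, ← h2, Matrix.toLin'_mul, LinearMap.comp_apply, hw, map_zero]
    rcases hirr _ h1 with h | h
    · exfalso
      apply hv
      rw [← Submodule.mem_bot F, ← h]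
      exact hc
    · apply Subtype.ext
      rw [LinearMap.ker_eq_top] at h
      exact Matrix.toLin'.injective (h.trans (map_zero _).symm)
  have := LinearMap.finrank_le_finrank_of_injective hinj
  rwa [finrank_fin_fun] at this

/-- the normalised field is the centraliser algebra -/
theorem eq_cent (hn : 0 < n) {s : SU n F q}
    (hirr : ∀ W : Submodule F (Fin n → F), (∀ w ∈ W, rho n F q s w ∈ W) → W = ⊥ ∨ W = ⊤)
    (hco : Nat.Coprime (orderOf s) n) {E : Subalgebra F (Matrix (Fin n) (Fin n) F)} (hE : IsFieldSubalgebra n E)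
    (hs : toG n F q s ∈ subalgebraNormalizer E) : E = cent s := by
  have hne : Nonempty (Fin n) := ⟨⟨0, hn⟩⟩
  have hle : E ≤ cent s := by
    intro c hc
    rw [mem_cent]
    exact Cfsg.Agent.H906.Cov.commute_of_coprime hE hs (by rwa [orderOf_injective _ toG_injective]) c hc
  have h1 : Subalgebra.toSubmodule E = Subalgebra.toSubmodule (cent s) := by
    apply Submodule.eq_of_le_of_finrank_le hle
    change finrank F (cent s) ≤ finrank F E
    rw [hE.finrank_eq]
    exact finrank_cent_le hn hirr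
  exact Subalgebra.toSubmodule_injective h1

/-- the kernel of the projection normalises every subalgebra -/
theorem ker_le_norm (hF : Fintype.card F = q ^ 2) (hn : 3 ≤ n) (C : Subalgebra F (Matrix (Fin n) (Fin n) F)) :
    (Cfsg.Agent.H674.SUBlock.pr : SU n F q →* PSU n F q).ker ≤ (subalgebraNormalizer C).comap (toG n F q) := by
  intro z hz
  rw [MonoidHom.mem_ker, Cfsg.Agent.H674.SUBlock.pr_eq_one_iff] at hz
  obtain ⟨c, -, -, hc⟩ := Cfsg.Agent.ClassicalGeometry.PSUAutBasic.exists_scalar_of_mem_center hF hn hz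
  have h1 : ((toG n F q z : GL (Fin n) F) : Matrix (Fin n) (Fin n) F) = c • (1 : Matrix (Fin n) (Fin n) F) := by
    apply Matrix.toLin'.injective
    apply LinearMap.ext
    intro v
    rw [map_smul, Matrix.toLin'_one]
    exact hc v
  have h2 : ∀ k : Matrix (Fin n) (Fin n) F, ((toG n F q z : GL (Fin n) F) : Matrix (Fin n) (Fin n) F) * k *
      (((toG n F q z)⁻¹ : GL (Fin n) F) : Matrix (Fin n) (Fin n) F) = k := by
    intro k
    have h3 : ((toG n F q z : GL (Fin n) F) : Matrix (Fin n) (Fin n) F) * k =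
        k * ((toG n F q z : GL (Fin n) F) : Matrix (Fin n) (Fin n) F) := by
      rw [h1, smul_mul_assoc, one_mul, mul_smul_comm, mul_one]
    rw [h3, mul_assoc, ← Units.val_mul, mul_inv_cancel, Units.val_one, mul_one]
  intro k
  rw [h2]

/-- **the row `PSU_11(2)`** -/
theorem row_eleven_two (hP : Cfsg.Agent.H659.CovCore.S5948Stmt.{0}) (hF : Fintype.card F = 2 ^ 2)
    [IsSimpleGroup (PSU 11 F 2)] [Finite (PSU 11 F 2)] (hna : ∃ x y : PSU 11 F 2, x * y ≠ y * x) :
    Spr (PSU 11 F 2) := by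
  have hqp := isPrimePow_q hF
  obtain ⟨m, hm, num⟩ := Cfsg.Agent.H906.Cov.exists_num_u (n := 11) (k := 11) hqp (by omega) (by omega) (by omega)
    (by decide) (by omega)
  obtain ⟨s, hs, hsD⟩ := exists_big (n := 11) hF (c := 0) (k := 11) (by omega) (by decide) (by omega) (by omega) hm num
  rw [pow_one] at hs
  have hirr : ∀ W : Submodule F (Fin 11 → F), (∀ w ∈ W, rho 11 F 2 s w ∈ W) → W = ⊥ ∨ W = ⊤ := by
    intro W hW
    obtain ⟨i, j, h1, h2, h3⟩ := hsD W hW
    interval_cases i
    · left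
      apply Submodule.finrank_eq_zero.1
      omega
    · right
      apply Submodule.eq_top_of_finrank_eq
      rw [finrank_fin_fun]
      omega
  have hco : Nat.Coprime (orderOf s) 11 := by
    rw [hs]
    have h1 := num.prim 5 (by norm_num) (by norm_num)
    exact Nat.Coprime.coprime_dvd_right (by norm_num) h1
  -- an element with a fixed space of dimension 4
  obtain ⟨l, B, hl, u, hu⟩ := exists_odd_block hF (k := 7) (by decide) (by norm_num) (by norm_num)
  have hul : u ^ l = 1 := by rw [← hu, pow_orderOf_eq_one]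
  have hune : u ≠ 1 := by
    intro h
    rw [h, orderOf_one] at hu
    exact B.pr.one_lt.ne hu
  have hfd : fd (bk hF ((1 : SU 4 F 2), u)) = 4 := by
    rw [fd_bk, B.ff u hul hune, fd_one]
  have hz : (bk hF ((1 : SU 4 F 2), u)) ^ l = 1 := by
    rw [← map_pow, Prod.pow_mk, hul, one_pow]
    exact map_one (bk hF)
  have hl11 : (11 : ℕ) ≠ l := by
    rintro rfl
    have h1 := (hl 10).1 (by norm_num)
    omega
  have hkey : ∀ E : Subalgebra F (Matrix (Fin 11) (Fin 11) F), IsFieldSubalgebra 11 E →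
      (subalgebraNormalizer E).comap (toG 11 F 2) ≠ ⊤ := by
    intro E hE htop
    have h1 : toG 11 F 2 (1 * bk hF ((1 : SU 4 F 2), u) * 1⁻¹) ∈ subalgebraNormalizer E := by
      have h2 : (1 * bk hF ((1 : SU 4 F 2), u) * 1⁻¹ : SU 11 F 2) ∈ (subalgebraNormalizer E).comap (toG 11 F 2) := by
        rw [htop]
        trivial
      exact h2
    have h2 := ext_kill (n := 11) (s := 1) (by norm_num : Nat.Prime 11) B.pr hl11 hE h1
      (by rw [pow_one]; exact hz)
    rw [pow_one] at h2
    change 11 ∣ fd (bk hF ((1 : SU 4 F 2), u)) at h2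
    rw [hfd] at h2
    omega
  have hov : ∀ K : Subgroup (SU 11 F 2), s ∈ K → K ≠ ⊤ → IsFieldSubalgebra 11 (cent s) ∧
      K ≤ (subalgebraNormalizer (cent s)).comap (toG 11 F 2) := by
    intro K hsK hK
    rcases overgp hP hF (s := s) (k := 11) (by rw [hs]; exact num) hK hsK with
      ⟨W, hW0, hW1, hW⟩ | ⟨r, E, hr, hrd, hE, hEK⟩
    · exfalso
      rcases hirr W (fun w hw => hW hsK w hw) with h | h
      · exact hW0 h
      · exact hW1 h
    · rw [Nat.gcd_self] at hrd
      have hr11 : r = 11 := (Nat.prime_dvd_prime_iff_eq hr (by norm_num)).1 hrd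
      subst hr11
      have h1 := eq_cent (by norm_num) hirr hco hE (hEK ⟨s, hsK, rfl⟩)
      rw [h1] at hE hEK
      exact ⟨hE, Subgroup.map_le_iff_le_comap.1 hEK⟩
  by_cases h : ∃ K : Subgroup (SU 11 F 2), s ∈ K ∧ K ≠ ⊤
  · obtain ⟨K, hsK, hK⟩ := h
    exact spr_of_one_up hna (Cfsg.Agent.H674.SUBlock.pr : SU 11 F 2 →* PSU 11 F 2)
      Cfsg.Agent.H674.SUBlock.pr_surjective (s := s) (ker_le_norm hF (by norm_num) _) (hkey _ (hov K hsK hK).1)
      (fun K _ hsK hK => (hov K hsK hK).2)
  · push Not at h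
    refine spr_of_one_up hna (Cfsg.Agent.H674.SUBlock.pr : SU 11 F 2 →* PSU 11 F 2)
      Cfsg.Agent.H674.SUBlock.pr_surjective (s := s) le_rfl ?_ (fun K _ hsK hK => absurd (h K hsK) hK)
    intro htop
    obtain ⟨x, y, hxy⟩ := hna
    obtain ⟨x, rfl⟩ := Cfsg.Agent.H674.SUBlock.pr_surjective x
    obtain ⟨y, rfl⟩ := Cfsg.Agent.H674.SUBlock.pr_surjective y
    have h1 : x ∈ (Cfsg.Agent.H674.SUBlock.pr : SU 11 F 2 →* PSU 11 F 2).ker := by rw [htop]; trivial
    rw [MonoidHom.mem_ker] at h1
    apply hxy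
    rw [h1, one_mul, mul_one]

end Cfsg.Agent.H981.Spr
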