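import Cfsg.Agent.H424.Spr.SU
import Cfsg.Agent.H981.Cov.Ten

/-!
# S3938, the row `PSU_10(2)` (helper981)

Elements of order `19` (type `1 + [9]`): every maximal overgroup is reducible, so every proper overgroup stabilises the
fixed line.
-/

set_option autoImplicit false

namespace Cfsg.Agent.H981.Spr

open Cfsg Cfsg.Geo Module Matrix
open Cfsg.Agent.LieClassical.HermBasic Cfsg.Agent.ClassicalGeometry.HermOrtho Cfsg.Agent.GpUn
open Cfsg.Agent.H779.DP (rho rho_apply rho_injective)
open Cfsg.Agent.H809.SelfCent (toG toG_injective toG_val)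
open Cfsg.Agent.H981.Cov Cfsg.Agent.H424.SprSU
open Cfsg.Agent.H424.Spr (Spr spr_of_one_up)

variable {F : Type} [Field F] [Fintype F]

/-- a maximal subgroup containing an element of order `19` is reducible -/
theorem red_nineteen (h42 : S5842Stmt) (hF : Fintype.card F = 2 ^ 2) {x : SU 10 F 2} (hx : orderOf x = 19)
    (hfx : fd x = 1) (hxD : IsD x (fun t => ∃ i j, t = 9 * i + j ∧ i ≤ 1 ∧ j ≤ 1)) {H : Subgroup (SU 10 F 2)}
    (hH : IsCoatom H) (hg : x ∈ H) : ∃ W : Submodule F (Fin 10 → F), W ≠ ⊥ ∧ W ≠ ⊤ ∧ H ≤ st W := by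
  have h19 : Nat.Prime 19 := by norm_num
  by_contra hno
  push Not at hno
  have hM := isMaximalIn_map (toG 10 F 2) toG_injective hH
  rw [range_toG] at hM
  have hred : ∀ W : Submodule F (Fin 10 → F), W ≠ ⊥ → W ≠ ⊤ → H.map (toG 10 F 2) ≤ subspaceStabilizer W → False :=
    fun W h0 h1 hW => hno W h0 h1 (fun z hz w hw => ((hW ⟨z, hz, rfl⟩) w).1 hw)
  set M := H.map (toG 10 F 2) with hMdef
  have hgM : toG 10 F 2 x ∈ M := ⟨_, hg, rfl⟩
  have hgM' : toG 10 F 2 (1 * x * 1⁻¹) ∈ M := by rwa [one_mul, inv_one, mul_one]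
  have hog : orderOf (toG 10 F 2 x) = 19 := by rw [orderOf_injective _ toG_injective, ← hx]
  have hg19 : toG 10 F 2 x ^ 19 = 1 := by rw [← hog, pow_orderOf_eq_one]
  have hfive : ∀ D : Fin 2 → Submodule F (Fin 10 → F), IsMDecomposition 5 D →
      M ≤ decompositionStabilizer D → False := by
    intro D hD hle
    obtain ⟨i, j, h3, h4, h5⟩ := hxD (D 0) (map_le_of_mem (fix_decomp hD h19 (by norm_num) (hle hgM) hg19 0))
    rw [hD.finrank_eq] at h3
    interval_cases i <;> interval_cases j <;> omega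
  rcases Cfsg.Agent.S5841.result 2 hF M hM with h | h | h | h | h | h | h | h | h | h | h | h
  · obtain ⟨W, hW0, -, hW⟩ := h
    refine hred W hW0 ?_ (by rw [hW]; exact inf_le_left)
    rintro rfl
    apply hM.1.ne
    rw [hW, inf_eq_right]
    intro z _ v
    exact ⟨fun _ => trivial, fun _ => trivial⟩
  · obtain ⟨W, hW0, -, hW1, hW⟩ := h
    refine hred W hW0 ?_ (by rw [hW]; exact inf_le_left)
    rintro rfl
    rw [finrank_top, finrank_fin_fun] at hW1
    omega
  · obtain ⟨D, hD, hM2⟩ := h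
    have hle : M ≤ decompositionStabilizer D := by rw [hM2]; exact inf_le_left
    have hfix := fix_decomp hD.decomp h19 (by norm_num) (hle hgM) hg19
    have h3 : ∀ w ∈ D 0 ⊔ D 1, rho 10 F 2 x w ∈ D 0 ⊔ D 1 := by
      apply map_le_of_mem
      rw [Submodule.map_sup, hfix, hfix]
    obtain ⟨i, j, h4, h5, h6⟩ := hxD _ h3
    have h7 : Disjoint (D 0) (D 1) := hD.decomp.indep.pairwiseDisjoint (by decide)
    have h8 := Submodule.finrank_sup_add_finrank_inf_eq (D 0) (D 1)
    rw [h7.eq_bot, finrank_bot, hD.decomp.finrank_eq, hD.decomp.finrank_eq, h4] at h8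
    interval_cases i <;> interval_cases j <;> omega
  · exact absurd h.1 (by norm_num)
  · obtain ⟨D, hD, hM2⟩ := h
    exact hfive D hD.decomp (by rw [hM2]; exact inf_le_left)
  · obtain ⟨D, hD, -, hM2⟩ := h
    exact hfive D hD (by rw [hM2]; exact inf_le_left)
  · obtain ⟨K, hK, -, hM2⟩ := h
    have hle : M ≤ subalgebraNormalizer K := by rw [hM2]; exact inf_le_left
    have h3 := ext_kill (s := 1) Nat.prime_five h19 (by norm_num) hK (hle hgM')
      (by rw [pow_one, ← hx, pow_orderOf_eq_one])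
    rw [pow_one, hfx] at h3
    omega
  · exact absurd h.1 (by norm_num)
  · obtain ⟨F₀, r, P, hr, hro, hc, -, -⟩ := h
    have h3 : 1 < Nat.card F₀ := Finite.one_lt_card
    have h4 : 3 ≤ r := by
      have := hr.two_le
      obtain ⟨k, hk⟩ := hro
      omega
    have h5 : 2 ^ 3 ≤ Nat.card F₀ ^ r := (Nat.pow_le_pow_left h3 3).trans (Nat.pow_le_pow_right (by omega) h4)
    rw [← hc, hF] at h5
    omega
  · obtain ⟨F₀, P, ζ, hc, -, -, -, -, hM2⟩ := h
    have hle : M ≤ subfieldSubgroup F₀ P := by rw [hM2]; exact inf_le_left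
    have h3 : 19 ∣ Nat.card (subfieldSubgroup F₀ P) := by
      rw [← hog, ← Subgroup.orderOf_mk _ (hle hgM)]
      exact orderOf_dvd_natCard _
    have h4 : Nat.card F₀ = 2 := by
      rw [hF] at hc
      exact (Nat.pow_left_injective (by norm_num : 2 ≠ 0) hc).symm
    rcases Cfsg.Agent.H659.CovCore.prime_dvd_subfield F₀ P h19 h3 with h5 | h5 | ⟨j, hj1, hj2, h5⟩
    · rw [hF] at h5
      omega
    · rw [h4] at h5
      omega
    · rw [h4] at h5
      interval_cases j <;> omega
  · exact absurd h.1 (by decide)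
  · obtain ⟨P, p, hc, hp, hcp, hlist⟩ := h42 2 hF M hM h
    have hp2 : p = 2 := by
      have h3 : p ∣ Fintype.card F := by
        rw [← CharP.cast_eq_zero_iff F p, FiniteField.cast_card_eq_zero]
      rw [hF] at h3
      exact (Nat.prime_dvd_prime_iff_eq hp Nat.prime_two).1 (hp.dvd_of_dvd_pow h3)
    subst hp2
    rcases hlist with h | h | h | h | h | h
    · exact h.2.2.1 rfl
    · have := h.2.2
      omega
    · have := h.2.2
      omega
    · omega
    · omega
    · obtain ⟨e⟩ := h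
      exact residual_false hF hc e hgM hog

/-- **the row `PSU_10(2)`** -/
theorem row_ten_two (h42 : S5842Stmt) (hF : Fintype.card F = 2 ^ 2) [IsSimpleGroup (PSU 10 F 2)]
    [Finite (PSU 10 F 2)] (hna : ∃ x y : PSU 10 F 2, x * y ≠ y * x) : Spr (PSU 10 F 2) := by
  obtain ⟨s, hs, hs1, hs2⟩ := exists_nineteen hF
  have hl : Nat.Prime 19 := by norm_num
  have hs19 : s ^ 19 = 1 := by rw [← hs, pow_orderOf_eq_one]
  have hsne : s ≠ 1 := fun h => by rw [h, orderOf_one] at hs; omega
  have hk : orderOf ((Nat.card F : ℕ) : ZMod 19) = 9 := by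
    rw [Nat.card_eq_fintype_card, hF]
    have hf : Fact (Nat.Prime 19) := ⟨hl⟩
    rw [orderOf_eq_iff (by norm_num)]
    refine ⟨by decide, fun m hm hm0 => ?_⟩
    interval_cases m <;> decide
  have hlF : ((19 : ℕ) : F) ≠ 0 := ne_zero_of_ord hl (by norm_num : (9 : ℕ) ≠ 0) hk
  have hfin := Cfsg.Agent.H779.DP.finrank_fx hl hs19 hsne hk (by norm_num) (by norm_num)
  have hd1 : finrank F (fx s) = 1 := by omega
  obtain ⟨z, hz⟩ := exists_noline (n := 10) hF (by decide) le_rfl
  refine spr_of_one_up hna (Cfsg.Agent.H674.SUBlock.pr : SU 10 F 2 →* PSU 10 F 2)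
    Cfsg.Agent.H674.SUBlock.pr_surjective (s := s) (M := st (fx s)) (ker_le_st hF (by norm_num) _) ?_ ?_
  · apply st_ne_top hz
    rw [hd1]
    rintro ⟨i, j, hij⟩
    omega
  · intro K _ hsK hK
    have hfinS : Finite (SU 10 F 2) := by infer_instance
    obtain ⟨H, hH, hKH⟩ := (eq_top_or_exists_le_coatom K).resolve_left hK
    obtain ⟨W, hW0, hW1, hW⟩ := red_nineteen h42 hF hs hs1 hs2 hH (hKH hsK)
    obtain ⟨U, hU0, hU, hKU⟩ := red_to_fix hF hl hlF hs19 hsne hk (by norm_num) (by norm_num) (hKH hsK) hW0 hW1 hW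
    have : U = fx s := by
      apply Submodule.eq_of_le_of_finrank_le hU
      rw [hd1]
      exact Nat.one_le_iff_ne_zero.2 fun h => hU0 (Submodule.finrank_eq_zero.1 h)
    rw [this] at hKU
    exact hKH.trans hKU

end Cfsg.Agent.H981.Spr
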